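import Cfsg.Prelude.Def_CaseTheorems
import Cfsg.Prelude.Def_KGroupFacts

/-!
A central extension inside a group whose quotient is the automorphism group of a simple group with
outer automorphism group of order two: every automorphism of the perfect part is induced.
-/

set_option autoImplicit false

namespace Cfsg.Agent.H33.AutLFi

variable {C : Type*} [Group C]

/-- a homomorphism of a perfect group to a commutative one is trivial -/
theorem hom_eq_one {A B : Type*} [Group A] [Group B] (hP : Group.IsPerfect A) (h : A →* B)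
    (hc : ∀ a b : A, h a * h b = h b * h a) (a : A) : h a = 1 := by
  have hle : commutator A ≤ h.ker := by
    rw [commutator_def, Subgroup.commutator_le]
    intro x _ y _
    rw [MonoidHom.mem_ker, map_commutatorElement, commutatorElement_def, hc x y,
      mul_inv_cancel_right, mul_inv_cancel]
  exact hle (hP.commutator_eq_top ▸ Subgroup.mem_top a)

/-- a perfect normal subgroup of index two is the commutator subgroup -/
theorem eq_commutator {K : Subgroup C} (hP : Group.IsPerfect ↥K) (hidx : K.index = 2) :
    K = commutator C := by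
  refine le_antisymm ?_ ?_
  · calc K = ⁅K, K⁆ := (Subgroup.isPerfect_iff.mp hP).symm
      _ ≤ ⁅(⊤ : Subgroup C), ⊤⁆ := Subgroup.commutator_mono le_top le_top
      _ = commutator C := (commutator_def C).symm
  · rw [commutator_def, Subgroup.commutator_le]
    intro a _ b _
    rw [commutatorElement_def]
    simp only [Subgroup.mul_mem_iff_of_index_two hidx, inv_mem_iff]
    tauto

variable [Finite C] {S : Type*} [Group S] [Finite S]

/-- the perfect part maps onto the simple group, equivariantly -/
theorem quot_facts {T K : Subgroup C} [T.Normal] (hTK : T ≤ K) (hidx : K.index = 2)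
    (hS : IsSimpleGroup S) (hZS : Subgroup.center S = ⊥)
    (hOut : Nat.card (Cfsg.Out S) = 2) (e : C ⧸ T ≃* MulAut S) :
    ∃ f : ↥K →* S, Function.Surjective f ∧ (∀ k : ↥K, f k = 1 ↔ (k : C) ∈ T) ∧
      (∀ σ : MulAut S, ∃ c : C, ∀ (k k' : ↥K), (k' : C) = c * k * c⁻¹ → f k' = σ (f k)) ∧
      ∀ c : C, (∀ k ∈ K, c * k * c⁻¹ * k⁻¹ ∈ T) → c ∈ T := by
  classical
  haveI := hS
  let q : C →* MulAut S := e.toMonoidHom.comp (QuotientGroup.mk' T)
  have hqs : Function.Surjective q := e.surjective.comp (QuotientGroup.mk'_surjective T)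
  have hqk : ∀ c, q c = 1 ↔ c ∈ T := fun c => by
    show e (QuotientGroup.mk c) = 1 ↔ _
    rw [e.map_eq_one_iff, QuotientGroup.eq_one_iff]
  set J : Subgroup (MulAut S) := K.map q with hJ
  have hJi : J.index = 2 := by
    rw [hJ, Subgroup.index_map_eq K hqs ?_, hidx]
    exact fun x hx => hTK ((hqk x).1 hx)
  let ι : S →* MulAut S := MulAut.conj
  have hι : Function.Injective ι := by
    refine (injective_iff_map_eq_one ι).2 fun s hs => ?_
    have : s ∈ Subgroup.center S := Subgroup.mem_center_iff.2 fun g => by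
      have h := MulEquiv.congr_fun hs g
      simp only [ι, MulAut.conj_apply, MulAut.one_apply] at h
      exact (mul_inv_eq_iff_eq_mul.1 h).symm
    rwa [hZS, Subgroup.mem_bot] at this
  have hII : ι.range.index = 2 := by
    rw [← hOut, Subgroup.index_eq_card]
  have hle : ι.range ≤ J := by
    haveI : J.Normal := Subgroup.normal_of_index_eq_two hJi
    rcases (inferInstance : (J.comap ι).Normal).eq_bot_or_eq_top with h | h
    · exfalso
      have hcomm : ∀ a b : S, a * b = b * a := by
        intro a b
        have hab : a * b * a⁻¹ * b⁻¹ ∈ J.comap ι := by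
          rw [Subgroup.mem_comap]
          simp only [map_mul, map_inv, Subgroup.mul_mem_iff_of_index_two hJi, inv_mem_iff]
          tauto
        rw [h, Subgroup.mem_bot] at hab
        exact mul_inv_eq_iff_eq_mul.1 (mul_inv_eq_one.1 hab)
      have : (⊤ : Subgroup S) = ⊥ := by
        rw [← hZS, eq_comm, eq_top_iff]
        exact fun x _ => Subgroup.mem_center_iff.2 fun g => hcomm g x
      exact top_ne_bot this
    · rintro _ ⟨s, rfl⟩
      exact (h ▸ Subgroup.mem_top s : s ∈ J.comap ι)
  have hJI : J = ι.range := by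
    refine (Subgroup.eq_of_le_of_card_ge hle ?_).symm
    have h1 := Subgroup.card_mul_index J
    have h2 := Subgroup.card_mul_index ι.range
    rw [hJi] at h1
    rw [hII, ← h1] at h2
    omega
  have hmem : ∀ k : ↥K, q k ∈ ι.range := fun k => hJI ▸ Subgroup.mem_map_of_mem q k.2
  let f : ↥K →* S := ((MonoidHom.ofInjective hι).symm.toMonoidHom).comp
    ((q.comp K.subtype).codRestrict ι.range hmem)
  have hf : ∀ k : ↥K, ι (f k) = q k := fun k => by
    show ι ((MonoidHom.ofInjective hι).symm ⟨q k, hmem k⟩) = q k
    exact MonoidHom.apply_ofInjective_symm hι _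
  have hsurj : Function.Surjective f := fun s => by
    obtain ⟨k, hk, hks⟩ : ι s ∈ K.map q := hJ ▸ hle ⟨s, rfl⟩
    exact ⟨⟨k, hk⟩, hι ((hf _).trans hks)⟩
  have hkey : ∀ (σ : MulAut S) (s : S), σ * ι s * σ⁻¹ = ι (σ s) := fun σ s => by
    refine MulEquiv.ext fun x => ?_
    simp [ι, MulAut.mul_apply]
  refine ⟨f, hsurj, fun k => ?_, fun σ => ?_, fun c hc => ?_⟩
  · rw [← hqk, ← hf, map_eq_one_iff ι hι]
  · obtain ⟨c, hc⟩ := hqs σ
    refine ⟨c, fun k k' h => hι ?_⟩
    rw [hf, h, map_mul, map_mul, map_inv, hc, ← hf, hkey]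
  · rw [← hqk]
    refine MulEquiv.ext fun s => hι ?_
    obtain ⟨k, rfl⟩ := hsurj s
    have h := (hqk _).2 (hc k k.2)
    rw [map_mul, map_mul, map_mul, map_inv, map_inv, mul_inv_eq_one, ← hf, hkey] at h
    exact h

end Cfsg.Agent.H33.AutLFi
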