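import Cfsg.Agent.H93.Exist.Fi23Type
import Cfsg.Agent.H93.Res23
import Cfsg.Agent.H41.TwoLayer

/-!
A group isomorphic to the presented Fi22 has a class of transpositions of type M(22) and an
involution with quasisimple centraliser covering the six-dimensional unitary group.
-/

set_option autoImplicit false
set_option maxRecDepth 100000

namespace Cfsg.Agent.H33.AutLFi

open Cfsg.Agent.H45
open Cfsg.Agent.H87.Fi22.Transp (t)
open Cfsg.Agent.H93.Exist (G22)
open Cfsg.Agent.H93 (nb)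

theorem t_mem_H : (t : G22) ∈ Fi22Main.H := by
  rw [← Cfsg.Agent.H87.Fi22.Transp.centralizer_eq]
  exact Subgroup.mem_centralizer_singleton_iff.mpr rfl

theorem orderOf_t22 : orderOf (t : G22) = 2 :=
  Cfsg.Agent.H87.Fi22.Transp.three_transpositions.1.1 _ mem_conjugatesOf_self

/-- transport of a class of transpositions -/
theorem class_map {A B : Type*} [Group A] [Group B] (e : A ≃* B) {D : Set A}
    (h : Cfsg.IsThreeTranspositionClass D) : Cfsg.IsThreeTranspositionClass (e '' D) := by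
  obtain ⟨⟨h2, h3⟩, ⟨d, hd, hD⟩, hgen⟩ := h
  refine ⟨⟨?_, ?_⟩, ⟨e d, ⟨d, hd, rfl⟩, ?_⟩, ?_⟩
  · rintro _ ⟨x, hx, rfl⟩
    rw [MulEquiv.orderOf_eq]; exact h2 x hx
  · rintro _ ⟨x, hx, rfl⟩ _ ⟨y, hy, rfl⟩
    rcases h3 x hx y hy with h | h
    · exact Or.inl (by rw [← map_mul, ← map_pow, h, map_one])
    · exact Or.inr (by rw [← map_mul, ← map_pow, h, map_one])
  · ext y
    constructor
    · rintro ⟨x, hx, rfl⟩
      rw [hD] at hx
      obtain ⟨g, rfl⟩ := isConj_iff.mp hx
      exact isConj_iff.mpr ⟨e g, by simp⟩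
    · intro hy
      obtain ⟨g, rfl⟩ := isConj_iff.mp hy
      exact ⟨e.symm g * d * (e.symm g)⁻¹, hD.symm ▸ isConj_iff.mpr ⟨_, rfl⟩, by simp⟩
  · have h1 := MonoidHom.map_closure e.toMonoidHom D
    rw [hgen, Subgroup.map_top_of_surjective e.toMonoidHom e.surjective] at h1
    exact h1.symm

/-- the hypotheses on the quotient of the centraliser in the recognition of type M(23) -/
theorem fi22_facts {Q : Type*} [Group Q] (f : Cfsg.Spor.Fi22 ≃* Q) :
    (∃ E : Set Q, Cfsg.IsThreeTranspositionClass E ∧ Cfsg.IsOfTypeM22 Q E) ∧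
    ∃ d' : Q, orderOf d' = 2 ∧ Cfsg.IsQuasisimple ↥(Subgroup.centralizer ({d'} : Set Q)) ∧
      (∃ (K : Type) (_ : Field K) (_ : Fintype K), Fintype.card K = 4 ∧
        ∃ _ : ((Subgroup.zpowers d').subgroupOf (Subgroup.centralizer ({d'} : Set Q))).Normal,
          Nonempty (↥(Subgroup.centralizer ({d'} : Set Q)) ⧸
            (Subgroup.zpowers d').subgroupOf (Subgroup.centralizer ({d'} : Set Q)) ≃* Cfsg.PSU 6 K 2)) ∧
      ∃ g : Q, g * d' * g⁻¹ ∈ Subgroup.centralizer ({d'} : Set Q) ∧ g * d' * g⁻¹ ≠ d' := by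
  classical
  let e : G22 ≃* Q := f
  refine ⟨⟨e '' conjugatesOf (t : G22), class_map e Cfsg.Agent.H87.Fi22.Transp.three_transpositions,
    Cfsg.Agent.H93.type22_transfer e Cfsg.Agent.H93.Exist.type22⟩, e t, ?_, ?_⟩
  · rw [MulEquiv.orderOf_eq]; exact orderOf_t22
  let : Fintype (GaloisField 2 2) := Fintype.ofFinite _
  have hc : Fintype.card (GaloisField 2 2) = 4 := by
    rw [← Nat.card_eq_fintype_card, GaloisField.card 2 2 (by norm_num)]; norm_num
  obtain ⟨hZ, ⟨p⟩, -⟩ := Cfsg.Agent.H27.Fi22U6.nonsplit hc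
  have hHimg : Fi22Main.H.map e.toMonoidHom = Subgroup.centralizer ({e t} : Set Q) := by
    rw [← Cfsg.Agent.H87.Fi22.Transp.centralizer_eq]
    ext y
    rw [Subgroup.mem_map_equiv, Subgroup.mem_centralizer_singleton_iff,
      Subgroup.mem_centralizer_singleton_iff]
    refine ⟨fun h => e.symm.injective (by simpa using h), fun h => e.injective (by simpa using h)⟩
  let σ : ↥Fi22Main.H ≃* ↥(Subgroup.centralizer ({e t} : Set Q)) :=
    (Fi22Main.H.equivMapOfInjective e.toMonoidHom e.injective).trans (MulEquiv.subgroupCongr hHimg)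
  have hs : IsSimpleGroup (Cfsg.PSU 6 (GaloisField 2 2) 2) := (Cfsg.Agent.H93.psu_six_center hc).1
  have hqH : Cfsg.IsQuasisimple ↥Fi22Main.H :=
    ⟨⟨Cfsg.Agent.H27.Fi22U6.perfect⟩, p.isSimpleGroup⟩
  have hcen : Subgroup.center ↥Fi22Main.H = (Subgroup.zpowers (t : G22)).subgroupOf Fi22Main.H := by
    symm
    haveI : Finite (Subgroup.center ↥Fi22Main.H) := Nat.finite_of_card_ne_zero (by rw [hZ]; norm_num)
    refine Subgroup.eq_of_le_of_card_ge (fun x hx => ?_) ?_
    · obtain ⟨k, hk⟩ := Subgroup.mem_zpowers_iff.mp (Subgroup.mem_subgroupOf.mp hx)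
      refine Subgroup.mem_center_iff.mpr fun y => Subtype.ext ?_
      have hy := Cfsg.Agent.H87.Fi22.Transp.H_le y.2
      rw [Subgroup.mem_centralizer_singleton_iff] at hy
      have hc' : Commute (y : G22) t := hy
      have := (hc'.zpow_right k).eq
      rw [hk] at this
      exact this
    · rw [hZ, Nat.card_congr (Subgroup.subgroupOfEquivOfLe (Subgroup.zpowers_le.mpr t_mem_H)).toEquiv,
        Nat.card_zpowers, orderOf_t22]
  refine ⟨Cfsg.Agent.H41.isQuasisimple_congr σ hqH, ?_, ?_⟩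
  · have hmap : (Subgroup.center ↥Fi22Main.H).map σ.toMonoidHom =
        (Subgroup.zpowers (e t)).subgroupOf (Subgroup.centralizer ({e t} : Set Q)) := by
      rw [hcen]
      ext y
      rw [Subgroup.mem_map_equiv, Subgroup.mem_subgroupOf, Subgroup.mem_subgroupOf]
      have hy : ((y : Q)) = e ((σ.symm y : ↥Fi22Main.H) : G22) := by
        conv_lhs => rw [← σ.apply_symm_apply y]
        rfl
      rw [hy]
      constructor
      · intro h
        obtain ⟨k, hk⟩ := Subgroup.mem_zpowers_iff.mp h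
        exact Subgroup.mem_zpowers_iff.mpr ⟨k, by rw [← map_zpow, hk]⟩
      · intro h
        obtain ⟨k, hk⟩ := Subgroup.mem_zpowers_iff.mp h
        exact Subgroup.mem_zpowers_iff.mpr ⟨k, e.injective (by rw [map_zpow, hk])⟩
    haveI hn : ((Subgroup.zpowers (e t)).subgroupOf (Subgroup.centralizer ({e t} : Set Q))).Normal :=
      hmap ▸ Subgroup.Normal.map inferInstance _ σ.surjective
    exact ⟨GaloisField 2 2, inferInstance, inferInstance, hc, hn,
      ⟨(QuotientGroup.congr _ _ σ hmap).symm.trans p⟩⟩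
  · obtain ⟨h1, h2, h3⟩ := Cfsg.Agent.H93.Exist.c22
    obtain ⟨g, hg⟩ := isConj_iff.mp h1
    refine ⟨e g, ?_, ?_⟩
    · rw [← map_inv, ← map_mul, ← map_mul, hg, Subgroup.mem_centralizer_singleton_iff, ← map_mul,
        ← map_mul, (h3 : Commute t _).eq]
    · rw [← map_inv, ← map_mul, ← map_mul, hg]
      exact fun h => h2 (e.injective h)

end Cfsg.Agent.H33.AutLFi
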