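import Cfsg.Agent.H41.LFi.Core
import Cfsg.Agent.H41.LFi.StabTwo
import Cfsg.Agent.H41.LFi.Perfect

/-!
An automorphism of a group of large Fischer type fixing the central involution and a vector of the
second class, and moving the centraliser of that vector by at most that vector, acts on the
quotient of the core as a transvection in the line of the vector.
-/

set_option autoImplicit false
set_option linter.unusedSectionVars false
set_option maxRecDepth 20000

namespace Cfsg.Agent.H33.AutLFi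

open Cfsg Cfsg.Agent.Compute Cfsg.Agent.Unitary Cfsg.Agent.H41.SUSix Matrix
open Cfsg.Agent.H41.LFi
open Cfsg.Agent.H92.ExtraForm (zp zp_inj zp_add)

attribute [local irreducible] mapsC sift invPerm H95.UFourThree.u43Chain

theorem k4_self : ∀ a : K4, a + a = 0 := by decide +kernel

theorem vec_self (v : Vec) : v + v = 0 := funext fun i => k4_self (v i)

theorem vec_cancel {u v : Vec} (h : u + v = 0) : u = v := by
  calc u = u + (v + v) := by rw [vec_self, add_zero]
    _ = (u + v) + v := (add_assoc _ _ _).symm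
    _ = v := by rw [h, zero_add]

theorem rootTwo : rootOf 2 = r5 := by rw [rootOf, if_pos rfl]; rfl

theorem pol_r5 (x : Vec) : pol r5 x = trK (x 0 + x 1) := by
  rw [pol_symm, pol_eq, herm_r5]

theorem pol_r5_smul (c : K4) : pol r5 (c • r5) = 0 := by
  have h : r5 0 = 1 ∧ r5 1 = 1 := by
    rw [r5_eq]; exact ⟨by decide +kernel, by decide +kernel⟩
  rw [pol_r5, Pi.smul_apply, Pi.smul_apply, h.1, h.2, k4_self]
  rfl

theorem wt_line : ∀ c : K4, wt (c • r5) = 0 := by
  rw [r5_eq]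
  decide +kernel

theorem pol_emb4 (u : Fin 4 → K4) (c : K4) : pol r5 (c • emb4 u) = 0 := by
  rw [pol_r5, Pi.smul_apply, Pi.smul_apply, show emb4 u 0 = 0 from rfl, show emb4 u 1 = 0 from rfl,
    smul_zero, add_zero]
  rfl

theorem pol_eb0 : pol r5 (eb 0) = 0 ∧ pol r5 (ω₄ • eb 0) = 1 := by
  rw [pol_r5, pol_r5]
  decide +kernel

theorem line_table : ∀ p q : ZMod 2, ∃ c : K4, pol (c • r5) (eb 0) = p ∧
    pol (c • r5) (ω₄ • eb 0) = q := by
  rw [r5_eq]
  decide +kernel

theorem k4_facts : ω₄ ≠ ω₄ * ω₄ ∧ (∀ c : K4, c = 0 ∨ c = 1 ∨ c = ω₄ ∨ c = ω₄ * ω₄) ∧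
    ω₄ * ω₄ = 1 + ω₄ ∧ ω₄ ≠ 1 := by decide +kernel

theorem omega_r5 : ω₄ • r5 ≠ r5 ∧ r5 ≠ 0 := by
  rw [r5_eq]
  decide +kernel

variable {G : Type*} [Group G] [Finite G] {z : G} {Q : Subgroup G}

/-- the hypotheses on the automorphism -/
structure Auto (S : LSetup z Q) (α : MulAut G) (t : G) : Prop where
  tQ : t ∈ Q
  tπ : S.π t = r5
  fixz : α z = z
  fixt : α t = t
  normQ : ∀ q ∈ Q, α q ∈ Q
  near : ∀ g, g * t = t * g → α g = g ∨ α g = g * t

namespace Auto

variable {S : LSetup z Q} {α : MulAut G} {t : G} (A : Auto S α t)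
include A

theorem mem_of_image {q : G} (h : α q ∈ Q) : q ∈ Q := by
  have hinj : Function.Injective fun a : ↥Q => (⟨α a, A.normQ a a.2⟩ : ↥Q) :=
    fun a b hab => Subtype.ext (α.injective (congrArg Subtype.val hab))
  obtain ⟨a, ha⟩ := Finite.injective_iff_surjective.1 hinj ⟨_, h⟩
  exact α.injective (congrArg Subtype.val ha) ▸ a.2

theorem z_comm {g : G} (h : g * z = z * g) : α g * z = z * α g := by
  rw [← A.fixz, ← map_mul, ← map_mul, h]

theorem π_congr {q q' : G} (hq : q ∈ Q) (hq' : q' ∈ Q) (h : S.π q = S.π q') :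
    S.π (α q) = S.π (α q') := by
  rcases S.π_eq hq hq' h with e | e <;> rw [e]
  rw [map_mul, A.fixz, S.π_zmul (A.normQ q hq)]

omit A in
/-- a chosen lift -/
noncomputable def liftQ (S : LSetup z Q) (v : Vec) : G := (S.π_surj v).choose

/-- the induced map on the quotient of the core -/
noncomputable def δ (_ : Auto S α t) (v : Vec) : Vec := S.π (α (liftQ S v))

/-- the map moved -/
noncomputable def gmap (v : Vec) : Vec := A.δ v + v

theorem δ_π {q : G} (hq : q ∈ Q) : A.δ (S.π q) = S.π (α q) :=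
  A.π_congr (S.π_surj _).choose_spec.1 hq (S.π_surj _).choose_spec.2

theorem δ_add (u v : Vec) : A.δ (u + v) = A.δ u + A.δ v := by
  obtain ⟨a, ha, rfl⟩ := S.π_surj u
  obtain ⟨b, hb, rfl⟩ := S.π_surj v
  rw [← S.π_mul a ha b hb, A.δ_π (mul_mem ha hb), A.δ_π ha, A.δ_π hb, map_mul,
    S.π_mul _ (A.normQ a ha) _ (A.normQ b hb)]

theorem g_add (u v : Vec) : A.gmap (u + v) = A.gmap u + A.gmap v := by
  rw [gmap, gmap, gmap, A.δ_add]; abel

theorem g_perp {v : Vec} (h : pol r5 v = 0) : A.gmap v = 0 ∨ A.gmap v = r5 := by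
  obtain ⟨q, hq, rfl⟩ := S.π_surj v
  have hc : q * t = t * q := by
    rw [S.comm_iff hq A.tQ, A.tπ, pol_symm]; exact h
  rw [gmap, A.δ_π hq]
  rcases A.near q hc with e | e <;> rw [e]
  · exact Or.inl (vec_self _)
  · right
    rw [S.π_mul q hq t A.tQ, A.tπ, add_comm (S.π q) r5, add_assoc, vec_self, add_zero]

theorem exists_fixed : ∃ a : Vec, a ≠ 0 ∧ A.gmap a = 0 ∧ A.gmap (ω₄ • a) = 0 := by
  classical
  let f : (Fin 4 → K4) → Bool × Bool := fun u =>
    (decide (A.gmap (emb4 u) = 0), decide (A.gmap (ω₄ • emb4 u) = 0))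
  have hn : ¬ Function.Injective f := by
    intro hf
    have h := Fintype.card_le_of_injective f hf
    revert h
    decide +kernel
  simp only [Function.Injective, not_forall] at hn
  obtain ⟨u, u', hf, hne⟩ := hn
  simp only [f, Prod.mk.injEq, decide_eq_decide] at hf
  have key : ∀ x y : Vec, pol r5 x = 0 → pol r5 y = 0 → (A.gmap x = 0 ↔ A.gmap y = 0) →
      A.gmap (x + y) = 0 := by
    intro x y hx hy hxy
    rw [A.g_add]
    rcases A.g_perp hx with e | e <;> rcases A.g_perp hy with e' | e' <;> rw [e, e']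
    · exact add_zero 0
    · exact absurd ((hxy.1 e).symm.trans e').symm omega_r5.2
    · exact absurd ((hxy.2 e').symm.trans e).symm omega_r5.2
    · exact vec_self _
  refine ⟨emb4 u + emb4 u', fun h => hne ?_, ?_, ?_⟩
  · funext i
    exact congrFun (vec_cancel h) i.succ.succ
  · exact key _ _ (by simpa using pol_emb4 u 1) (by simpa using pol_emb4 u' 1) hf.1
  · rw [smul_add]
    exact key _ _ (pol_emb4 u ω₄) (pol_emb4 u' ω₄) hf.2

theorem δ_linear (c : K4) (v : Vec) : A.δ (c • v) = c • A.δ v := by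
  obtain ⟨k, hk, hk'⟩ := exists_smul_mem
  obtain ⟨x, hx, rfl⟩ := S.ρ_surj k hk
  have hx' : α x * z = z * α x := A.z_comm hx
  have hx3 : x * x * x ∈ Q := by
    refine (S.ρ_ker _ (S.z_comm_mul (S.z_comm_mul hx hx) hx)).1 (Equiv.ext fun u => ?_)
    rw [S.ρ_mul _ _ (S.z_comm_mul hx hx) hx, S.ρ_mul _ _ hx hx, Equiv.Perm.mul_apply,
      Equiv.Perm.mul_apply, hk', hk', hk', smul_smul, smul_smul,
      show ω₄ * ω₄ * ω₄ = (1 : K4) by decide +kernel, one_smul]
    rfl
  have h3 : S.ρ (α x) * S.ρ (α x) * S.ρ (α x) = 1 := by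
    rw [← S.ρ_mul _ _ hx' hx', ← S.ρ_mul _ _ (S.z_comm_mul hx' hx') hx', ← map_mul, ← map_mul]
    exact (S.ρ_ker _ (A.z_comm (S.z_comm_mul (S.z_comm_mul hx hx) hx))).2 (A.normQ _ hx3)
  have hxK : S.ρ (α x) ∈ Kl := by
    by_contra hK
    refine hK ?_
    have h2 := S.two_elts hx' hx' hK hK
    have := Kl.mul_mem h2 h2
    rwa [show S.ρ (α x) * S.ρ (α x) * (S.ρ (α x) * S.ρ (α x)) =
      S.ρ (α x) * S.ρ (α x) * S.ρ (α x) * S.ρ (α x) by group, h3, one_mul] at this
  have h1 : S.ρ (α x) ≠ 1 := by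
    intro h
    have hq := A.mem_of_image ((S.ρ_ker _ hx').1 h)
    have e := Equiv.congr_fun ((S.ρ_ker x hx).2 hq) r5
    rw [hk'] at e
    exact omega_r5.1 e
  have hn : ∀ k ∈ Kl, k * S.ρ (α x) * k⁻¹ = S.ρ (α x) ∨
      k * S.ρ (α x) * k⁻¹ = S.ρ (α x) * S.ρ (α x) := by
    intro k hk
    obtain ⟨c, hc, rfl⟩ := S.ρ_surj k hk
    have hc' : α.symm c * z = z * α.symm c := by
      refine α.injective ?_
      rw [map_mul, map_mul, α.apply_symm_apply, A.fixz, hc]
    set c' := α.symm c with hc'def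
    have hconj : c' * x * c'⁻¹ * z = z * (c' * x * c'⁻¹) :=
      S.z_comm_mul (S.z_comm_mul hc' hx) (S.z_comm_inv hc')
    obtain ⟨θ, hθ⟩ := S.ρ_semi c' hc'
    have hval : ∀ u, S.ρ (c' * x * c'⁻¹) u = tw θ ω₄ • u := by
      intro u
      rw [S.ρ_mul _ _ (S.z_comm_mul hc' hx) (S.z_comm_inv hc'), S.ρ_mul _ _ hc' hx, S.ρ_inv hc',
        Equiv.Perm.mul_apply, Equiv.Perm.mul_apply, hk', hθ.smul, Equiv.Perm.inv_def,
        Equiv.apply_symm_apply]
    have back : ∀ y, y * z = z * y → S.ρ (c' * x * c'⁻¹) = S.ρ y →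
        S.ρ c * S.ρ (α x) * (S.ρ c)⁻¹ = S.ρ (α y) := by
      intro y hy he
      have hcc : α c' = c := α.apply_symm_apply c
      have hq : y⁻¹ * (c' * x * c'⁻¹) ∈ Q := (S.ρ_ker _ (S.z_comm_mul (S.z_comm_inv hy) hconj)).1
        (by rw [S.ρ_mul _ _ (S.z_comm_inv hy) hconj, S.ρ_inv hy, he, inv_mul_cancel])
      have hzq := S.le _ hq
      have e := congrArg α (mul_inv_cancel_left y (c' * x * c'⁻¹)).symm
      rw [map_mul α y, map_mul α (c' * x), map_mul α c', map_inv, hcc] at e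
      rw [← S.ρ_inv hc, ← S.ρ_mul _ _ hc hx', ← S.ρ_mul _ _ (S.z_comm_mul hc hx') (S.z_comm_inv hc),
        e, S.ρ_mul _ _ (A.z_comm hy) (A.z_comm hzq),
        (S.ρ_ker _ (A.z_comm hzq)).2 (A.normQ _ hq), mul_one]
    cases θ
    · left
      exact back x hx (Equiv.ext fun u => (hval u).trans (hk' u).symm)
    · right
      rw [← S.ρ_mul _ _ hx' hx', ← map_mul]
      refine back (x * x) (S.z_comm_mul hx hx) (Equiv.ext fun u => ?_)
      rw [hval, S.ρ_mul _ _ hx hx, Equiv.Perm.mul_apply, hk', hk', smul_smul]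
      rfl
  have hscal := scalar_of_normal_three hxK h3 h1 hn
  have hsemi : ∀ v, A.δ (ω₄ • v) = S.ρ (α x) (A.δ v) := by
    intro v
    obtain ⟨q, hq, rfl⟩ := S.π_surj v
    rw [← hk', ← S.ρ_π x hx q hq, A.δ_π (S.norm x hx q hq), A.δ_π hq, map_mul, map_mul, map_inv,
      S.ρ_π _ hx' _ (A.normQ q hq)]
  have hω : ∀ v, A.δ (ω₄ • v) = ω₄ • A.δ v := by
    rcases hscal with h | h
    · exact fun v => (hsemi v).trans (h _)
    · exfalso
      obtain ⟨a, ha, ga, gw⟩ := A.exists_fixed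
      have e1 := vec_cancel (show A.δ a + a = 0 from ga)
      have e2 := vec_cancel (show A.δ (ω₄ • a) + ω₄ • a = 0 from gw)
      rw [hsemi, h, e1] at e2
      obtain ⟨i, hi⟩ := Function.ne_iff.1 ha
      have key : ∀ y : K4, y ≠ 0 → ω₄ * ω₄ * y ≠ ω₄ * y := by decide +kernel
      exact key _ hi (congrFun e2 i)
  have h0 : A.δ 0 = 0 := by
    have h := A.δ_add 0 0
    rw [add_zero] at h
    exact left_eq_add.1 h
  rcases k4_facts.2.1 c with rfl | rfl | rfl | rfl
  · rw [zero_smul, zero_smul, h0]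
  · rw [one_smul, one_smul]
  · exact hω v
  · rw [← smul_smul, hω, hω, smul_smul]

theorem g_linear (c : K4) (v : Vec) : A.gmap (c • v) = c • A.gmap v := by
  rw [gmap, gmap, A.δ_linear, smul_add]

/-- an automorphism fixing the centraliser of the vector in the core is inner on the core -/
theorem inner_of_fixed (h : ∀ q ∈ Q, q * t = t * q → α q = q) :
    (∀ q ∈ Q, α q = q) ∨ ∀ q ∈ Q, α q = t * q * t⁻¹ := by
  have hg : ∀ v, A.gmap v = 0 := by
    have hp : ∀ v, pol r5 v = 0 → A.gmap v = 0 := by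
      intro v hv
      obtain ⟨q, hq, rfl⟩ := S.π_surj v
      have hc : q * t = t * q := by rw [S.comm_iff hq A.tQ, A.tπ, pol_symm]; exact hv
      rw [gmap, A.δ_π hq, h q hq hc, vec_self]
    intro v
    rcases zmod_two_cases (pol r5 v) with e | e
    · exact hp v e
    · have h1 := hp (v + ω₄ • eb 0) (by rw [pol_add_right, e, pol_eb0.2]; rfl)
      rwa [A.g_add, A.g_linear, hp _ pol_eb0.1, smul_zero, add_zero] at h1
  have hcases : ∀ q ∈ Q, α q = q ∨ α q = z * q := fun q hq =>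
    S.π_eq hq (A.normQ q hq) ((A.δ_π hq).symm.trans (vec_cancel (hg _))).symm
  have hperp : ∀ q ∈ Q, ¬ q * t = t * q → t * q * t⁻¹ = z * q := by
    intro q hq hn
    rcases S.π_eq hq (S.norm t (S.le t A.tQ) q hq) (by
      rw [S.ρ_π t (S.le t A.tQ) q hq, (S.ρ_ker t (S.le t A.tQ)).2 A.tQ]; rfl) with e | e
    · exact absurd (mul_inv_eq_iff_eq_mul.1 e).symm hn
    · exact e
  by_cases hall : ∀ q ∈ Q, α q = q
  · exact Or.inl hall
  right
  simp only [not_forall] at hall
  obtain ⟨u, hu, hne⟩ := hall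
  have hun : ¬ u * t = t * u := fun e => hne (h u hu e)
  intro q hq
  by_cases hc : q * t = t * q
  · rw [h q hq hc, ← hc, mul_inv_cancel_right]
  rw [hperp q hq hc]
  rcases hcases q hq with e | e
  swap
  · exact e
  exfalso
  have hp1 : pol (S.π q) (S.π t) = 1 :=
    (zmod_two_cases _).resolve_left fun e' => hc ((S.comm_iff hq A.tQ).2 e')
  have hp2 : pol (S.π u) (S.π t) = 1 :=
    (zmod_two_cases _).resolve_left fun e' => hun ((S.comm_iff hu A.tQ).2 e')
  have h3 := h (q * u) (mul_mem hq hu) (by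
    rw [S.comm_iff (mul_mem hq hu) A.tQ, S.π_mul q hq u hu, pol_add_left, hp1, hp2]; rfl)
  rw [map_mul, e] at h3
  exact hne (mul_left_cancel h3)

end Auto

/-- the automorphism moves the centraliser of the vector in the core -/
structure Moving (S : LSetup z Q) (α : MulAut G) (t : G) : Prop extends Auto S α t where
  moves : ¬ ∀ q ∈ Q, q * t = t * q → α q = q

namespace Moving

variable {S : LSetup z Q} {α : MulAut G} {t : G} (A : Moving S α t)
include A

theorem exists_moved : ∃ q ∈ Q, q * t = t * q ∧ α q ≠ q := by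
  by_contra h
  push Not at h
  exact A.moves h

theorem g_eb0 : A.gmap (eb 0) = r5 := by
  rcases A.g_perp pol_eb0.1 with h0 | h0
  · exfalso
    have hω0 : A.gmap (ω₄ • eb 0) = 0 := by rw [A.g_linear, h0, smul_zero]
    obtain ⟨q, hq, hqt, hne⟩ := A.exists_moved
    have hp : pol r5 (S.π q) = 0 := by
      rw [pol_symm, ← A.tπ]; exact (S.comm_iff hq A.tQ).1 hqt
    have hgq : A.gmap (S.π q) = r5 := by
      rcases A.near q hqt with e | e
      · exact absurd e hne
      · rw [Auto.gmap, A.δ_π hq, e, S.π_mul q hq t A.tQ, A.tπ, add_comm (S.π q) r5, add_assoc,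
          vec_self, add_zero]
    rcases zmod_two_cases (pol r5 (ω₄ • S.π q)) with e | e
    · rcases A.g_perp e with e' | e' <;> rw [A.g_linear, hgq] at e'
      · exact omega_r5.2 (by
          rcases k4_facts.2.1 ω₄ with h | h | h | h
          all_goals
            have key : ∀ y : K4, ω₄ * y = 0 → y = 0 := by decide +kernel
            exact funext fun i => key _ (congrFun e' i))
      · exact omega_r5.1 e'
    · have hp' : pol r5 (ω₄ • S.π q + ω₄ • eb 0) = 0 := by
        rw [pol_add_right, e, pol_eb0.2]; rfl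
      rcases A.g_perp hp' with e' | e' <;> rw [A.g_add, hω0, add_zero, A.g_linear, hgq] at e'
      · have key : ∀ y : K4, ω₄ * y = 0 → y = 0 := by decide +kernel
        exact omega_r5.2 (funext fun i => key _ (congrFun e' i))
      · exact omega_r5.1 e'
  · exact h0

theorem g_line (v : Vec) : ∃ c : K4, A.gmap v = c • r5 := by
  have hperp : ∀ p, pol r5 p = 0 → ∃ c : K4, A.gmap p = c • r5 := fun p hp => by
    rcases A.g_perp hp with e | e
    · exact ⟨0, by rw [e, zero_smul]⟩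
    · exact ⟨1, by rw [e, one_smul]⟩
  rcases zmod_two_cases (pol r5 v) with e | e
  · exact hperp v e
  · obtain ⟨c, hc⟩ := hperp (v + ω₄ • eb 0) (by rw [pol_add_right, e, pol_eb0.2]; rfl)
    refine ⟨c + ω₄, ?_⟩
    rw [add_smul, ← hc, A.g_add, A.g_linear, A.g_eb0, add_assoc, vec_self, add_zero]

theorem perp_of_fix {v : Vec} (h : A.gmap v = 0) : pol r5 v = 0 := by
  rcases zmod_two_cases (pol r5 v) with e | e
  · exact e
  · exfalso
    rcases A.g_perp (v := v + ω₄ • eb 0) (by rw [pol_add_right, e, pol_eb0.2]; rfl) with e' | e' <;>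
      rw [A.g_add, h, zero_add, A.g_linear, A.g_eb0] at e'
    · have key : ∀ y : K4, ω₄ * y = 0 → y = 0 := by decide +kernel
      exact omega_r5.2 (funext fun i => key _ (congrFun e' i))
    · exact omega_r5.1 e'

theorem fixed_of_fix {q : G} (hq : q ∈ Q) (h : A.gmap (S.π q) = 0) : α q = q := by
  have hc : q * t = t * q := by
    rw [S.comm_iff hq A.tQ, A.tπ, pol_symm]; exact A.perp_of_fix h
  rcases A.near q hc with e | e
  · exact e
  · exfalso
    have hv := h
    rw [Auto.gmap, A.δ_π hq, e, S.π_mul q hq t A.tQ, A.tπ, add_comm (S.π q) r5, add_assoc, vec_self,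
      add_zero] at hv
    exact omega_r5.2 hv

/-- the commutator of an element of the core with the automorphism -/
theorem w_facts {u : G} (hu : u ∈ Q) :
    u * (α u)⁻¹ ∈ Q ∧ u * (α u)⁻¹ * (u * (α u)⁻¹) = 1 ∧
      u * (α u)⁻¹ * t = t * (u * (α u)⁻¹) ∧ S.π (u * (α u)⁻¹) = A.gmap (S.π u) := by
  have hw : u * (α u)⁻¹ ∈ Q := mul_mem hu (inv_mem (A.normQ u hu))
  have hπ : S.π (u * (α u)⁻¹) = A.gmap (S.π u) := by
    rw [S.π_mul u hu _ (inv_mem (A.normQ u hu)), S.π_inv (A.normQ u hu), ← A.δ_π hu, Auto.gmap, add_comm]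
  obtain ⟨c, hc⟩ := A.g_line (S.π u)
  refine ⟨hw, ?_, ?_, hπ⟩
  · rw [S.sq _ hw, hπ, hc, wt_line]; simp [zp]
  · rw [S.comm_iff hw A.tQ, hπ, hc, A.tπ, pol_symm, pol_r5_smul]

/-- an element moving the line can be corrected to be fixed by the automorphism -/
theorem exists_mover : ∃ g : G, g * z = z * g ∧ α g = g ∧ g * t * g⁻¹ ≠ t ∧
    (g * t * g⁻¹) * t = t * (g * t * g⁻¹) := by
  obtain ⟨k, hk, hk'⟩ := exists_smul_mem
  obtain ⟨x, hx, rfl⟩ := S.ρ_surj k hk
  have hαx : α x * z = z * α x := A.z_comm hx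
  set e := x * (α x)⁻¹ with he
  have hez : e * z = z * e := S.z_comm_mul hx (S.z_comm_inv hαx)
  have hρα : ∀ v, S.ρ (α x) (A.δ v) = A.δ (ω₄ • v) := by
    intro v
    obtain ⟨q, hq, rfl⟩ := S.π_surj v
    rw [← hk', ← S.ρ_π x hx q hq, A.δ_π (S.norm x hx q hq), A.δ_π hq, map_mul, map_mul, map_inv,
      S.ρ_π _ hαx _ (A.normQ q hq)]
  have heQ : e ∈ Q := by
    refine (S.ρ_ker e hez).1 ?_
    rw [S.ρ_mul _ _ hx (S.z_comm_inv hαx), S.ρ_inv hαx, mul_inv_eq_one]
    refine Equiv.ext fun w => ?_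
    have hbij : ∃ v, A.δ v = w := by
      obtain ⟨q, hq, rfl⟩ := S.π_surj w
      refine ⟨S.π (α.symm q), ?_⟩
      have hq' : α.symm q ∈ Q := A.mem_of_image (by rw [α.apply_symm_apply]; exact hq)
      rw [A.δ_π hq', α.apply_symm_apply]
    obtain ⟨v, rfl⟩ := hbij
    rw [hρα, A.δ_linear, hk']
  have horth : ∀ v, A.gmap v = 0 → pol (S.π e) v = 0 := by
    intro v hv
    obtain ⟨q, hq, rfl⟩ := S.π_surj v
    have h1 : α q = q := A.fixed_of_fix hq hv
    have hxi : x⁻¹ * z = z * x⁻¹ := S.z_comm_inv hx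
    have hqc : x⁻¹ * q * x⁻¹⁻¹ ∈ Q := S.norm _ hxi q hq
    have hπc : ω₄ • S.π (x⁻¹ * q * x⁻¹⁻¹) = S.π q := by
      rw [S.ρ_π _ hxi q hq, ← hk', ← Equiv.Perm.mul_apply, ← S.ρ_mul _ _ hx hxi, mul_inv_cancel,
        S.ρ_one, Equiv.Perm.one_apply]
    have hfix : A.gmap (S.π (x⁻¹ * q * x⁻¹⁻¹)) = 0 := by
      have h := congrArg A.gmap hπc
      rw [A.g_linear, hv] at h
      have key : ∀ y : K4, ω₄ * y = 0 → y = 0 := by decide +kernel
      exact funext fun i => key _ (congrFun h i)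
    have h2 := A.fixed_of_fix hqc hfix
    simp only [map_mul, map_inv, h1, inv_inv] at h2
    refine (S.comm_iff heQ hq).1 ?_
    calc e * q = x * ((α x)⁻¹ * q * α x) * (α x)⁻¹ := by rw [he]; group
      _ = x * (x⁻¹ * q * x) * (α x)⁻¹ := by rw [h2]
      _ = q * e := by rw [he]; group
  have hline : ∃ c : K4, S.π e = c • r5 := by
    obtain ⟨c, h1, h2⟩ := line_table (pol (S.π e) (eb 0)) (pol (S.π e) (ω₄ • eb 0))
    refine ⟨c, vec_cancel ?_⟩
    set y := S.π e + c • r5
    by_contra hy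
    obtain ⟨v, hv⟩ := pol_nondeg hy
    obtain ⟨c', hc'⟩ := A.g_line v
    have hfix : A.gmap (v + c' • eb 0) = 0 := by
      rw [A.g_add, hc', A.g_linear, A.g_eb0, vec_self]
    have hfix2 : pol (c • r5) (v + c' • eb 0) = 0 := by
      rcases k4_facts.2.1 c with rfl | rfl | rfl | rfl
      · rw [zero_smul, pol_symm]
        have := pol_add_right (v + c' • eb 0) 0 0
        rw [add_zero] at this
        exact left_eq_add.1 this
      · rw [one_smul]; exact A.perp_of_fix hfix
      all_goals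
        rw [pol_eq]
        have hp1 := A.perp_of_fix hfix
        have hp2 := A.perp_of_fix (v := ω₄ • (v + c' • eb 0)) (by rw [A.g_linear, hfix, smul_zero])
        rw [pol_r5] at hp1 hp2
        rw [Pi.smul_apply, Pi.smul_apply] at hp2
        generalize hA : (v + c' • eb 0) 0 = a at hp1 hp2
        generalize hB : (v + c' • eb 0) 1 = b at hp1 hp2
        have key : ∀ a b : K4, trK (a + b) = 0 → trK (ω₄ • a + ω₄ • b) = 0 → a + b = 0 := by
          decide +kernel
        have hs := key a b hp1 hp2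
        have hh : ∀ k : K4, trK (hermForm 6 K4 2 (k • r5) (v + c' • eb 0)) = 0 := by
          intro k
          rw [← pol_eq, pol_symm, pol_eq]
          have : hermForm 6 K4 2 (v + c' • eb 0) (k • r5) = k ^ 2 * (a + b) := by
            rw [← hA, ← hB, herm_two]
            have h : ∀ i : Fin 4, r5 i.succ.succ = 0 := by rw [r5_eq]; decide +kernel
            have h0 : r5 0 = 1 ∧ r5 1 = 1 := by
              rw [r5_eq]; exact ⟨by decide +kernel, by decide +kernel⟩
            simp only [Pi.smul_apply, h, smul_zero, h0.1, h0.2, smul_eq_mul, mul_one, hermForm,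
              zero_pow two_ne_zero, mul_zero, Finset.sum_const_zero, add_zero]
            ring
          rw [this, hs, mul_zero]
          rfl
        exact hh _
    have hy0 : pol y (v + c' • eb 0) = 0 := by
      rw [pol_add_left, horth _ hfix, hfix2, add_zero]
    have hyb : pol y (c' • eb 0) = 0 := by
      have hb1 : pol y (eb 0) = 0 := by rw [pol_add_left, h1, zmod_add_self]
      have hb2 : pol y (ω₄ • eb 0) = 0 := by rw [pol_add_left, h2, zmod_add_self]
      rcases k4_facts.2.1 c' with rfl | rfl | rfl | rfl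
      · rw [zero_smul]
        have := pol_add_right y 0 0
        rw [add_zero] at this
        exact left_eq_add.1 this
      · rwa [one_smul]
      · exact hb2
      · rw [k4_facts.2.2.1, add_smul, one_smul, pol_add_right, hb1, hb2, add_zero]
    rw [pol_add_right, hv, hyb, add_zero] at hy0
    exact one_ne_zero hy0
  obtain ⟨c, hc⟩ := hline
  obtain ⟨r, hr, hrv⟩ := S.π_surj (c • eb 0)
  obtain ⟨hw, -, -, hwπ⟩ := A.w_facts hr
  rw [hrv, A.g_linear, A.g_eb0, ← hc] at hwπ
  have hrz := S.le r hr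
  set g := r⁻¹ * x with hg
  have hgz : g * z = z * g := S.z_comm_mul (S.z_comm_inv hrz) hx
  have hρ : ∀ u, S.ρ g u = ω₄ • u := fun u => by
    rw [S.ρ_mul _ _ (S.z_comm_inv hrz) hx, S.ρ_inv hrz, (S.ρ_ker r hrz).2 hr, inv_one, one_mul, hk']
  have hfix : α g = g := by
    rcases S.π_eq hw heQ hwπ with h | h
    · rw [he] at h
      rw [hg, map_mul, map_inv]
      calc (α r)⁻¹ * α x = r⁻¹ * (r * (α r)⁻¹) * (x * (α x)⁻¹)⁻¹ * x := by group
        _ = r⁻¹ * x := by rw [h]; group
    · exfalso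
      have h' : α g = z * g := by
        rw [he] at h
        have hz1 : z⁻¹ = z := inv_eq_of_mul_eq_one_right S.z_sq
        have hr' : r * (α r)⁻¹ = z * (x * (α x)⁻¹) := by rw [h, ← mul_assoc, S.z_sq, one_mul]
        rw [hg, map_mul, map_inv]
        calc (α r)⁻¹ * α x = r⁻¹ * (r * (α r)⁻¹) * (x * (α x)⁻¹)⁻¹ * x := by group
          _ = r⁻¹ * z * x := by rw [hr']; group
          _ = z * (r⁻¹ * x) := by rw [S.z_comm_inv hrz, mul_assoc]
      have hg2 := S.z_comm_mul hgz hgz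
      have hg3 : g * g * g ∈ Q := by
        refine (S.ρ_ker _ (S.z_comm_mul hg2 hgz)).1 (Equiv.ext fun u => ?_)
        rw [S.ρ_mul _ _ hg2 hgz, S.ρ_mul _ _ hgz hgz, Equiv.Perm.mul_apply,
          Equiv.Perm.mul_apply, hρ, hρ, hρ, smul_smul, smul_smul,
          show ω₄ * ω₄ * ω₄ = (1 : K4) by decide +kernel, one_smul]
        rfl
      have hα3 : α (g * g * g) = z * (g * g * g) := by
        rw [map_mul, map_mul, h']
        calc z * g * (z * g) * (z * g) = z * (g * z) * g * (z * g) := by group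
          _ = z * z * g * g * z * g := by rw [hgz]; group
          _ = g * g * z * g := by rw [S.z_sq, one_mul]
          _ = z * (g * g * g) := by rw [hg2]; group
      have hne := A.fixed_of_fix hg3 (by
        rw [Auto.gmap, A.δ_π hg3, hα3, S.π_zmul hg3, vec_self])
      rw [hα3, mul_eq_right] at hne
      exact S.z_ne hne
  have hπt : S.π (g * t * g⁻¹) = ω₄ • r5 := by rw [S.ρ_π g hgz t A.tQ, hρ, A.tπ]
  refine ⟨g, hgz, hfix, fun h => omega_r5.1 ?_, ?_⟩
  · rw [← hπt, h, A.tπ]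
  · rw [S.comm_iff (S.norm g hgz t A.tQ) A.tQ, hπt, A.tπ, pol_symm, pol_r5_smul]

end Moving

end Cfsg.Agent.H33.AutLFi
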