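import Cfsg.Agent.H33.AutLFi.Outer
import Cfsg.Agent.H33.AutLFi.Fi22Facts

/-!
The outer involution with centraliser satisfying the hypotheses of the recognition of type M(23).
-/

set_option autoImplicit false
set_option maxRecDepth 20000

namespace Cfsg.Agent.H33.AutLFi

universe u

variable {X : Type u} [Group X] [Finite X]

/-- The powers of an element form a normal subgroup of its centraliser. -/
theorem zpowers_normal {G : Type*} [Group G] (t : G) :
    ((Subgroup.zpowers t).subgroupOf (Subgroup.centralizer ({t} : Set G))).Normal := by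
  refine ⟨fun n hn g => Subgroup.mem_subgroupOf.2 ?_⟩
  obtain ⟨k, hk⟩ := Subgroup.mem_zpowers_iff.1 (Subgroup.mem_subgroupOf.1 hn)
  have hg : Commute (g : G) t := Subgroup.mem_centralizer_singleton_iff.1 g.2
  rw [Subgroup.coe_mul, Subgroup.coe_mul, Subgroup.coe_inv, ← hk, (hg.zpow_right k).eq,
    mul_inv_cancel_right]
  exact Subgroup.zpow_mem_zpowers t k

theorem exists_outer_involution (G₀ : Subgroup X) (hidx : G₀.index = 2) (z : ↥G₀)
    (Q : Subgroup (Subgroup.centralizer ({z} : Set ↥G₀))) [Q.Normal]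
    (hF : Cfsg.IsOfLargeFischerTypeAt z Q)
    (hcentral : ∃ P : Sylow 2 ↥G₀, z ∈ (P : Subgroup ↥G₀) ∧ ∀ x ∈ (P : Subgroup ↥G₀), Commute x z)
    (hFX : (Cfsg.generalizedFittingSubgroup ↥(Subgroup.centralizer ({(z : X)} : Set X))).map
      (Subgroup.subtype _) = ((Q.map (Subgroup.subtype _)).map G₀.subtype))
    (hC : ∀ t : ↥G₀, t ∈ Q.map (Subgroup.centralizer ({z} : Set ↥G₀)).subtype → orderOf t = 2 →
      ¬ IsConj z t → ∃ (K : Subgroup ↥(Subgroup.centralizer ({t} : Set ↥G₀)))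
        (_ : ((Subgroup.zpowers t).subgroupOf (Subgroup.centralizer ({t} : Set ↥G₀))).Normal),
        Cfsg.IsQuasisimple ↥K ∧ K.index = 2 ∧
        (∃ htc : t ∈ Subgroup.centralizer ({t} : Set ↥G₀), (⟨t, htc⟩ : _) ∈ K) ∧
        Nonempty (↥(Subgroup.centralizer ({t} : Set ↥G₀)) ⧸
          (Subgroup.zpowers t).subgroupOf (Subgroup.centralizer ({t} : Set ↥G₀)) ≃*
          MulAut Cfsg.Spor.Fi22)) :
    ∃ d : X, orderOf d = 2 ∧ d ∉ G₀ ∧ Commute d (z : X) ∧
      ∃ t : ↥(G₀ ⊓ Subgroup.centralizer ({d} : Set X)), orderOf t = 2 ∧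
      Cfsg.IsQuasisimple ↥(Subgroup.centralizer ({t} : Set ↥(G₀ ⊓ Subgroup.centralizer ({d} : Set X)))) ∧
      (∃ (_ : ((Subgroup.zpowers t).subgroupOf (Subgroup.centralizer ({t} : Set ↥(G₀ ⊓ Subgroup.centralizer ({d} : Set X))))).Normal),
        (∃ E : Set (↥(Subgroup.centralizer ({t} : Set ↥(G₀ ⊓ Subgroup.centralizer ({d} : Set X)))) ⧸
          (Subgroup.zpowers t).subgroupOf (Subgroup.centralizer ({t} : Set ↥(G₀ ⊓ Subgroup.centralizer ({d} : Set X))))),
          Cfsg.IsThreeTranspositionClass E ∧ Cfsg.IsOfTypeM22 _ E) ∧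
        ∃ d' : ↥(Subgroup.centralizer ({t} : Set ↥(G₀ ⊓ Subgroup.centralizer ({d} : Set X)))) ⧸
          (Subgroup.zpowers t).subgroupOf (Subgroup.centralizer ({t} : Set ↥(G₀ ⊓ Subgroup.centralizer ({d} : Set X)))),
          orderOf d' = 2 ∧ Cfsg.IsQuasisimple ↥(Subgroup.centralizer ({d'} : Set _)) ∧
          (∃ (K : Type) (_ : Field K) (_ : Fintype K), Fintype.card K = 4 ∧
            ∃ _ : ((Subgroup.zpowers d').subgroupOf (Subgroup.centralizer ({d'} : Set _))).Normal,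
              Nonempty (↥(Subgroup.centralizer ({d'} : Set _)) ⧸
                (Subgroup.zpowers d').subgroupOf (Subgroup.centralizer ({d'} : Set _)) ≃* Cfsg.PSU 6 K 2)) ∧
          ∃ g, g * d' * g⁻¹ ∈ Subgroup.centralizer ({d'} : Set _) ∧ g * d' * g⁻¹ ≠ d') ∧
      ∃ g : ↥(G₀ ⊓ Subgroup.centralizer ({d} : Set X)),
        g * t * g⁻¹ ∈ Subgroup.centralizer ({t} : Set ↥(G₀ ⊓ Subgroup.centralizer ({d} : Set X))) ∧
          g * t * g⁻¹ ≠ t := by
  obtain ⟨d, t, K, f, hd2, hdG, hdz, ht2, hdt, hqK, hfs, hfk, hK, -, -, g, hdg, hgne, hgc⟩ :=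
    outer_main G₀ hidx z Q hF hcentral hFX hC
  refine ⟨d, hd2, hdG, hdz, ?_⟩
  have hmem : ∀ a : ↥G₀, Commute d (a : X) → (a : X) ∈ G₀ ⊓ Subgroup.centralizer ({d} : Set X) :=
    fun a ha => ⟨a.2, Subgroup.mem_centralizer_singleton_iff.2 ha.eq.symm⟩
  set Y := G₀ ⊓ Subgroup.centralizer ({d} : Set X) with hY
  let t' : ↥Y := ⟨t, hmem t hdt⟩
  refine ⟨t', by rw [← Subgroup.orderOf_coe]; show orderOf (t : X) = 2; rw [Subgroup.orderOf_coe, ht2], ?_⟩
  -- the centraliser in the smaller group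
  let toK : ↥(Subgroup.centralizer ({t'} : Set ↥Y)) →* ↥K := MonoidHom.mk'
    (fun a => ⟨⟨((a : ↥Y) : X), (a : ↥Y).2.1⟩, (hK _).2 ⟨Subtype.ext
      (congrArg (fun b : ↥Y => (b : X)) (Subgroup.mem_centralizer_singleton_iff.1 a.2)),
      (Subgroup.mem_centralizer_singleton_iff.1 (a : ↥Y).2.2).symm⟩⟩)
    fun a b => rfl
  have hbij : Function.Bijective toK := by
    refine ⟨fun a b h => Subtype.ext (Subtype.ext (congrArg (fun k : ↥K => ((k : ↥G₀) : X)) h)), fun k => ?_⟩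
    obtain ⟨hkt, hkd⟩ := (hK k).1 k.2
    exact ⟨⟨⟨((k : ↥G₀) : X), hmem _ hkd⟩, Subgroup.mem_centralizer_singleton_iff.2
      (Subtype.ext (congrArg (fun b : ↥G₀ => (b : X)) hkt))⟩, rfl⟩
  let σ : ↥(Subgroup.centralizer ({t'} : Set ↥Y)) ≃* ↥K := MulEquiv.ofBijective toK hbij
  refine ⟨Cfsg.Agent.H41.isQuasisimple_congr σ.symm hqK, ?_, ?_⟩
  · haveI hn := zpowers_normal t'
    let F : ↥(Subgroup.centralizer ({t'} : Set ↥Y)) →* Cfsg.Spor.Fi22 := f.comp σ.toMonoidHom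
    have hker : F.ker = (Subgroup.zpowers t').subgroupOf (Subgroup.centralizer ({t'} : Set ↥Y)) := by
      ext a
      rw [MonoidHom.mem_ker, Subgroup.mem_subgroupOf]
      refine (hfk _).trans ?_
      constructor
      · intro h
        obtain ⟨n, hn⟩ := Subgroup.mem_zpowers_iff.1 h
        refine Subgroup.mem_zpowers_iff.2 ⟨n, Subtype.ext ?_⟩
        have := congrArg (fun b : ↥G₀ => (b : X)) hn
        rw [Subgroup.coe_zpow] at this ⊢
        exact this
      · intro h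
        obtain ⟨n, hn⟩ := Subgroup.mem_zpowers_iff.1 h
        refine Subgroup.mem_zpowers_iff.2 ⟨n, Subtype.ext ?_⟩
        have := congrArg (fun b : ↥Y => (b : X)) hn
        rw [Subgroup.coe_zpow] at this ⊢
        exact this
    let e := (QuotientGroup.quotientMulEquivOfEq hker.symm).trans
      (QuotientGroup.quotientKerEquivOfSurjective F (hfs.comp σ.surjective))
    exact ⟨hn, fi22_facts e.symm⟩
  · refine ⟨⟨g, hmem g hdg⟩, Subgroup.mem_centralizer_singleton_iff.2 (Subtype.ext ?_), fun h => hgne ?_⟩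
    · exact congrArg (fun b : ↥G₀ => (b : X)) hgc
    · exact Subtype.ext (congrArg (fun b : ↥Y => (b : X)) h)

end Cfsg.Agent.H33.AutLFi
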