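import Cfsg.Agent.H33.AutLFi.Line
import Cfsg.Agent.H33.AutLFi.Ext
import Cfsg.Agent.H41.LFi.Pair
import Cfsg.Agent.Components.Basic
import Cfsg.Agent.H93.Exist.Fi22Point
import Cfsg.Agent.H46.Fi22Out.Main
import Cfsg.Agent.H41.TwoLayer

/-!
The outer involution of a group with a subgroup of index two of large Fischer type: it centralises
the perfect part of the centraliser of a vector of the second class.
-/

set_option autoImplicit false
set_option linter.unusedSectionVars false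
set_option maxRecDepth 20000

namespace Cfsg.Agent.H33.AutLFi

open Cfsg Cfsg.Agent.Compute Cfsg.Agent.Unitary Cfsg.Agent.H41.SUSix
open Cfsg.Agent.H41.LFi
open Cfsg.Agent.H92.ExtraForm (zp zp_inj zp_add)

attribute [local irreducible] mapsC sift invPerm H95.UFourThree.u43Chain

variable {X : Type*} [Group X] [Finite X]

theorem subgroup_comm {G : Type*} [Group G] {t a : G} :
    a ∈ Subgroup.centralizer ({t} : Set G) ↔ a * t = t * a :=
  Subgroup.mem_centralizer_singleton_iff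

theorem outer_main (G₀ : Subgroup X) (hidx : G₀.index = 2) (z : ↥G₀)
    (Q : Subgroup (Subgroup.centralizer ({z} : Set ↥G₀))) [Q.Normal]
    (hF : Cfsg.IsOfLargeFischerTypeAt z Q)
    (hcentral : ∃ P : Sylow 2 ↥G₀, z ∈ (P : Subgroup ↥G₀) ∧ ∀ x ∈ (P : Subgroup ↥G₀), Commute x z)
    (hFX : (Cfsg.generalizedFittingSubgroup ↥(Subgroup.centralizer ({(z : X)} : Set X))).map
      (Subgroup.subtype _) = ((Q.map (Subgroup.subtype _)).map G₀.subtype))
    (hC : ∀ t : ↥G₀, t ∈ Q.map (Subgroup.centralizer ({z} : Set ↥G₀)).subtype → orderOf t = 2 →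
      ¬ IsConj z t → ∃ (K : Subgroup ↥(Subgroup.centralizer ({t} : Set ↥G₀)))
        (_ : ((Subgroup.zpowers t).subgroupOf (Subgroup.centralizer ({t} : Set ↥G₀))).Normal),
        Cfsg.IsQuasisimple ↥K ∧ K.index = 2 ∧
        (∃ htc : t ∈ Subgroup.centralizer ({t} : Set ↥G₀), (⟨t, htc⟩ : _) ∈ K) ∧
        Nonempty (↥(Subgroup.centralizer ({t} : Set ↥G₀)) ⧸
          (Subgroup.zpowers t).subgroupOf (Subgroup.centralizer ({t} : Set ↥G₀)) ≃*
          MulAut Cfsg.Spor.Fi22)) :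
    ∃ (d : X) (t : ↥G₀) (K : Subgroup ↥G₀) (f : ↥K →* Cfsg.Spor.Fi22),
      orderOf d = 2 ∧ d ∉ G₀ ∧ Commute d (z : X) ∧ orderOf t = 2 ∧ Commute d (t : X) ∧
      Cfsg.IsQuasisimple ↥K ∧ Function.Surjective f ∧ (∀ k : ↥K, f k = 1 ↔ (k : ↥G₀) ∈ Subgroup.zpowers t) ∧
      (∀ a : ↥G₀, a ∈ K ↔ (a * t = t * a ∧ Commute d (a : X))) ∧
      t ∈ Q.map (Subgroup.centralizer ({z} : Set ↥G₀)).subtype ∧ ¬ IsConj z t ∧
      ∃ g : ↥G₀, Commute d (g : X) ∧ g * t * g⁻¹ ≠ t ∧ (g * t * g⁻¹) * t = t * (g * t * g⁻¹) := by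
  classical
  haveI : G₀.Normal := Subgroup.normal_of_index_eq_two hidx
  obtain ⟨S⟩ := setup_of Q hF
  set Qm : Subgroup ↥G₀ := Q.map (Subgroup.centralizer ({z} : Set ↥G₀)).subtype with hQm
  -- conjugation by elements of the whole group
  let act : X →* MulAut ↥G₀ := MulAut.conjNormal
  have act_coe : ∀ (x : X) (g : ↥G₀), ((act x g : ↥G₀) : X) = x * (g : X) * x⁻¹ := fun x g =>
    MulAut.conjNormal_apply x g
  have act_fix : ∀ (x : X) (g : ↥G₀), act x g = g ↔ x * (g : X) = (g : X) * x := fun x g => by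
    rw [← Subtype.coe_inj, act_coe, mul_inv_eq_iff_eq_mul]
  have hFn : ∀ x : X, x * z = z * x → ∀ q ∈ Qm, act x q ∈ Qm := by
    intro x hx q hq
    have hq' : (q : X) ∈ Qm.map G₀.subtype := ⟨q, hq, rfl⟩
    rw [← hFX] at hq'
    obtain ⟨w, hw, hwq⟩ := hq'
    have hm := (inferInstance : (Cfsg.generalizedFittingSubgroup
      ↥(Subgroup.centralizer ({(z : X)} : Set X))).Normal).conj_mem w hw ⟨x, subgroup_comm.2 hx⟩
    have h2 : x * (q : X) * x⁻¹ ∈ Qm.map G₀.subtype := by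
      rw [← hFX]
      refine ⟨_, hm, ?_⟩
      rw [← hwq]
      rfl
    obtain ⟨r, hr, hre⟩ := h2
    have : r = act x q := Subtype.ext (hre.trans (act_coe x q).symm)
    exact this ▸ hr
  have hcen : ∀ x : X, x * z = z * x → (∀ q ∈ Qm, act x q = q) → x ∈ G₀ := by
    intro x hx h
    have hmem : (⟨x, subgroup_comm.2 hx⟩ : ↥(Subgroup.centralizer ({(z : X)} : Set X))) ∈
        Subgroup.centralizer (Cfsg.generalizedFittingSubgroup
          ↥(Subgroup.centralizer ({(z : X)} : Set X)) : Set _) := by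
      rw [Subgroup.mem_centralizer_iff]
      intro w hw
      have hw' : ((w : ↥(Subgroup.centralizer ({(z : X)} : Set X))) : X) ∈ Qm.map G₀.subtype := by
        rw [← hFX]; exact ⟨w, hw, rfl⟩
      obtain ⟨r, hr, hre⟩ := hw'
      refine Subtype.ext ?_
      show (w : X) * x = x * (w : X)
      rw [← show ((r : ↥G₀) : X) = w from hre]
      exact ((act_fix x r).1 (h r hr)).symm
    have hmem' : x ∈ Qm.map G₀.subtype := by
      rw [← hFX]
      exact ⟨_, Cfsg.Agent.Components.centralizer_genFitting_le hmem, rfl⟩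
    obtain ⟨r, -, rfl⟩ := hmem'
    exact r.2
  -- an element outside commuting with the central involution
  obtain ⟨y₀, hy₀, hy₀z⟩ : ∃ y : X, y ∉ G₀ ∧ y * z = z * y := by
    obtain ⟨P, hzP, hPz⟩ := hcentral
    haveI : Fact (Nat.Prime 2) := ⟨Nat.prime_two⟩
    have htop := Sylow.normalizer_sup_eq_top (N := G₀) P
    obtain ⟨y, hy, hyG⟩ : ∃ y ∈ Subgroup.normalizer (((P : Subgroup ↥G₀).map G₀.subtype : Subgroup X) : Set X),
        y ∉ G₀ := by
      by_contra hcon
      push Not at hcon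
      rw [sup_eq_right.2 hcon] at htop
      rw [htop, Subgroup.index_top] at hidx
      omega
    refine ⟨y, hyG, ?_⟩
    have hz' : act y z ∈ (P : Subgroup ↥G₀) := by
      have h := (Subgroup.mem_normalizer_iff.1 hy (z : X)).1 ⟨z, hzP, rfl⟩
      obtain ⟨r, hr, hre⟩ := h
      have : r = act y z := Subtype.ext (hre.trans (act_coe y z).symm)
      exact this ▸ hr
    have hz'c : ∀ p ∈ (P : Subgroup ↥G₀), p * act y z = act y z * p := by
      intro p hp
      obtain ⟨r, hr, hre⟩ : ∃ r ∈ (P : Subgroup ↥G₀), act y r = p := by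
        have h := (Subgroup.mem_normalizer_iff.1 hy (y⁻¹ * (p : X) * y)).2
          (by rw [show y * (y⁻¹ * (p : X) * y) * y⁻¹ = p by group]; exact ⟨p, hp, rfl⟩)
        obtain ⟨r, hr, hre⟩ := h
        refine ⟨r, hr, Subtype.ext ?_⟩
        rw [act_coe, show ((r : ↥G₀) : X) = y⁻¹ * (p : X) * y from hre]
        group
      rw [← hre, ← map_mul, ← map_mul, (hPz r hr).eq]
    have hQP : Qm ≤ (P : Subgroup ↥G₀) := by
      let Pc : Sylow 2 ↥(Subgroup.centralizer ({z} : Set ↥G₀)) :=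
        P.subtype (fun p hp => subgroup_comm.2 (hPz p hp).eq)
      have hp : IsPGroup 2 ↥Q := IsPGroup.of_card (n := 13) (by
        rw [Nat.card_congr (Q.equivMapOfInjective _
          (Subgroup.centralizer ({z} : Set ↥G₀)).subtype_injective).toEquiv]
        exact S.card_Q)
      obtain ⟨P₁, hP₁⟩ := hp.exists_le_sylow
      obtain ⟨g, hg⟩ := MulAction.exists_smul_eq ↥(Subgroup.centralizer ({z} : Set ↥G₀)) P₁ Pc
      rintro _ ⟨q, hq, rfl⟩
      have : q ∈ (Pc : Subgroup ↥(Subgroup.centralizer ({z} : Set ↥G₀))) := by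
        rw [← hg, Sylow.coe_subgroup_smul, Subgroup.mem_pointwise_smul_iff_inv_smul_mem]
        exact hP₁ (by simpa [MulAut.conj_apply] using ‹Q.Normal›.conj_mem q hq g⁻¹)
      exact this
    have hz'z : act y z * z = z * act y z := (hz'c z hzP).symm
    have hρ : S.ρ (act y z) = 1 := Equiv.ext fun v => by
      obtain ⟨q, hq, rfl⟩ := S.π_surj v
      rw [← S.ρ_π _ hz'z q hq, ← hz'c q (hQP hq), mul_inv_cancel_right]
      rfl
    have hz'Q := (S.ρ_ker _ hz'z).1 hρ
    have hπ : S.π (act y z) = 0 := by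
      by_contra h
      obtain ⟨v, hv⟩ := pol_nondeg h
      obtain ⟨q, hq, rfl⟩ := S.π_surj v
      rw [(S.comm_iff hz'Q hq).1 (hz'c q (hQP hq)).symm] at hv
      exact zero_ne_one hv
    rcases (S.π_zero _ hz'Q).1 hπ with h | h
    · exact absurd ((act y).map_eq_one_iff.1 h) S.z_ne
    · exact (act_fix y z).1 h
  -- the vector
  obtain ⟨t, htQ, htπ⟩ := S.π_surj r5
  have hcls : cls (S.π t) = 2 := by rw [htπ, ← rootTwo]; exact cls_root (Or.inl rfl)
  have hπt : S.π t ≠ 0 := by rw [htπ]; exact omega_r5.2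
  have ht2 : t * t = 1 := by
    rw [S.sq t htQ, htπ, show wt r5 = 0 by simpa using wt_line 1]; simp [zp]
  have ht1 : t ≠ 1 := fun h => hπt (by rw [h, S.π_one])
  have hto : orderOf t = 2 := orderOf_eq_prime (by rw [pow_two, ht2]) ht1
  have hcls3 : ∀ q ∈ Qm, S.π q ≠ 0 → IsConj z q → cls (S.π q) = 3 := by
    intro q hq hne hc
    obtain ⟨g, rfl⟩ := isConj_iff.1 hc
    exact S.cls_eq_three (pair_of Q hF hq fun e => hne (by rw [e, S.π_z]))
  have htz : ¬ IsConj z t := fun h => by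
    have := hcls3 t htQ hπt h
    omega
  -- correct the outer element
  obtain ⟨y, hy, hyz, hyt⟩ : ∃ y : X, y ∉ G₀ ∧ y * z = z * y ∧ y * (t : X) = t * y := by
    have hs := hFn y₀ hy₀z t htQ
    have hzfix : act y₀ z = z := (act_fix y₀ z).2 hy₀z
    have hs0 : S.π (act y₀ t) ≠ 0 := fun h => by
      rcases (S.π_zero _ hs).1 h with e | e
      · exact ht1 ((act y₀).map_eq_one_iff.1 e)
      · rw [← hzfix] at e
        exact hπt (by rw [(act y₀).injective e, S.π_z])
    have hcl : cls (S.π (act y₀ t)) = 2 := by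
      have hw : wt (S.π (act y₀ t)) = 0 := S.wt_zero_of_sq hs (by rw [← map_mul, ht2, map_one])
      obtain ⟨f1, f0, f3⟩ := facts (S.π (act y₀ t))
      have n1 : cls (S.π (act y₀ t)) ≠ 1 := fun e => by
        rw [(cls_one_iff _).1 e] at hw
        exact one_ne_zero hw
      have n0 : cls (S.π (act y₀ t)) ≠ 0 := fun e => hs0 (f0.1 e)
      by_contra h2
      have h3 : cls (S.π (act y₀ t)) = 3 := by omega
      obtain ⟨g, hgQ, hgne⟩ := S.nwc
      have hg3 := hcls3 _ hgQ (fun e => by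
        rcases (S.π_zero _ hgQ).1 e with e' | e'
        · exact S.z_ne (conj_eq_one_iff.1 e')
        · exact hgne e') (isConj_iff.2 ⟨g, rfl⟩)
      obtain ⟨c, hc, ec⟩ := S.conj_of_cls hgQ hs (hg3.trans h3.symm) (Or.inr hg3)
      refine htz (isConj_iff.2 ⟨(act y₀).symm (c * g), (act y₀).injective ?_⟩)
      rw [map_mul, map_mul, map_inv, MulEquiv.apply_symm_apply, hzfix, ← ec]
      group
    obtain ⟨c, hc, ec⟩ := S.conj_of_cls hs htQ (hcl.trans hcls.symm) (Or.inl hcl)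
    have ec' := congrArg G₀.subtype ec
    simp only [map_mul, map_inv, Subgroup.coe_subtype, act_coe] at ec'
    refine ⟨(c : X) * y₀, fun h => hy₀ ?_, ?_, ?_⟩
    · simpa using G₀.mul_mem (G₀.inv_mem c.2) h
    · have hc' := congrArg Subtype.val hc
      simp only [Subgroup.coe_mul] at hc'
      rw [mul_assoc, hy₀z, ← mul_assoc, hc', mul_assoc]
    · rw [← mul_inv_eq_iff_eq_mul]
      calc (c : X) * y₀ * (t : X) * ((c : X) * y₀)⁻¹ = (c : X) * (y₀ * (t : X) * y₀⁻¹) * (c : X)⁻¹ := by group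
        _ = (t : X) := ec'
  -- the centraliser of the vector
  set C := Subgroup.centralizer ({t} : Set ↥G₀) with hCdef
  obtain ⟨K₀, hTn, hq, hK2, ⟨htc, htK⟩, ⟨e⟩⟩ := hC t htQ hto htz
  haveI := hTn
  obtain ⟨hK, hsimple⟩ := hq
  have hK₀ : K₀ = commutator ↥C := eq_commutator hK hK2
  have hTK : (Subgroup.zpowers t).subgroupOf C ≤ K₀ := by
    intro x hx
    obtain ⟨k, hk⟩ := Subgroup.mem_zpowers_iff.1 (Subgroup.mem_subgroupOf.1 hx)
    have : x = (⟨t, htc⟩ : ↥C) ^ k := Subtype.ext (by rw [Subgroup.coe_zpow]; exact hk.symm)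
    exact this ▸ K₀.zpow_mem htK k
  haveI h22 : Finite Cfsg.Agent.H93.Exist.G22 := Cfsg.Agent.H45.Fi22Top.order_facts.1
  haveI : Finite Cfsg.Spor.Fi22 := h22
  obtain ⟨f₀, hf₀s, hf₀k, hσ, hcent⟩ := quot_facts hTK hK2 Cfsg.Agent.H45.Fi22Top.isSimple
    Cfsg.Agent.H93.Exist.center22 Cfsg.Agent.H46.Fi22Out.out_card e
  set K : Subgroup ↥G₀ := K₀.map C.subtype with hKdef
  have hKC : ∀ a : ↥G₀, a ∈ K → a * t = t * a := by
    rintro _ ⟨a, -, rfl⟩
    exact subgroup_comm.1 a.2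
  have hK_eq : K = ⁅C, C⁆ := by rw [hKdef, hK₀, Subgroup.map_subtype_commutator]
  have hKinv : ∀ x : X, x * (t : X) = t * x → ∀ a ∈ K, act x a ∈ K := by
    intro x hx a ha
    have hCinv : C.map (act x).toMonoidHom ≤ C := by
      rintro _ ⟨c, hc, rfl⟩
      refine subgroup_comm.2 ?_
      have := congrArg (act x) (subgroup_comm.1 hc)
      rwa [map_mul, map_mul, (act_fix x t).2 hx] at this
    have h := Subgroup.mem_map_of_mem (act x).toMonoidHom ha
    rw [hK_eq, Subgroup.map_commutator] at h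
    rw [hK_eq]
    exact Subgroup.commutator_mono hCinv hCinv h
  -- the induced automorphism of the simple group
  let αK : ↥K₀ →* ↥K₀ := MonoidHom.mk'
    (fun k => ⟨⟨act y ((k : ↥C) : ↥G₀), subgroup_comm.2 (hKC _ (hKinv y hyt _ ⟨k, k.2, rfl⟩))⟩, by
      obtain ⟨a, ha, hae⟩ := hKinv y hyt _ (Subgroup.mem_map_of_mem C.subtype k.2)
      have : a = ⟨act y ((k : ↥C) : ↥G₀), subgroup_comm.2 (hKC _ (hKinv y hyt _ ⟨k, k.2, rfl⟩))⟩ :=
        Subtype.ext hae
      exact this ▸ ha⟩)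
    fun a b => Subtype.ext (Subtype.ext (map_mul (act y) _ _))
  have hαs : Function.Surjective αK := Finite.injective_iff_surjective.1 fun a b h =>
    Subtype.ext (Subtype.ext ((act y).injective
      (congrArg (fun u : ↥K₀ => ((u : ↥C) : ↥G₀)) h)))
  have hαker : f₀.ker ≤ (f₀.comp αK).ker := by
    intro k hk
    rw [MonoidHom.mem_ker, hf₀k, Subgroup.mem_subgroupOf] at hk
    rw [MonoidHom.mem_ker, MonoidHom.comp_apply, hf₀k, Subgroup.mem_subgroupOf]
    obtain ⟨n, hn⟩ := Subgroup.mem_zpowers_iff.1 hk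
    refine Subgroup.mem_zpowers_iff.2 ⟨n, ?_⟩
    show _ = act y ((k : ↥C) : ↥G₀)
    rw [← hn, map_zpow, (act_fix y t).2 hyt]
  let σ₀ : Cfsg.Spor.Fi22 →* Cfsg.Spor.Fi22 :=
    f₀.liftOfRightInverse (Function.surjInv hf₀s) (Function.rightInverse_surjInv hf₀s)
      ⟨f₀.comp αK, hαker⟩
  have hσ₀ : ∀ k, σ₀ (f₀ k) = f₀ (αK k) := fun k =>
    MonoidHom.liftOfRightInverse_comp_apply f₀ _ (Function.rightInverse_surjInv hf₀s)
      ⟨f₀.comp αK, hαker⟩ k
  have hσs : Function.Surjective σ₀ := fun s => by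
    obtain ⟨k, rfl⟩ := hf₀s s
    obtain ⟨j, rfl⟩ := hαs k
    exact ⟨f₀ j, hσ₀ j⟩
  obtain ⟨c, hc⟩ := hσ (MulEquiv.ofBijective σ₀ ⟨Finite.injective_iff_surjective.2 hσs, hσs⟩)
  set d : X := y * ((c : ↥G₀) : X)⁻¹ with hd
  have hdG : d ∉ G₀ := fun h => hy (by
    simpa [hd] using G₀.mul_mem h (c : ↥G₀).2)
  have hdt : d * (t : X) = t * d := by
    have h1 : Commute ((c : ↥G₀) : X) (t : X) := congrArg Subtype.val (subgroup_comm.1 c.2)
    exact ((show Commute y (t : X) from hyt).mul_left h1.inv_left).eq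
  set α : MulAut ↥G₀ := act d with hα
  have hαt : α t = t := (act_fix d t).2 hdt
  have hαK : ∀ a ∈ K, α a = a := by
    have hKd := hKinv d hdt
    haveI : (K₀).Normal := Subgroup.normal_of_index_eq_two hK2
    have hfd : ∀ k : ↥K₀, α ((k : ↥C) : ↥G₀) * ((k : ↥C) : ↥G₀)⁻¹ ∈ Subgroup.zpowers t := by
      intro k
      have hb : c⁻¹ * (k : ↥C) * c ∈ K₀ := by
        simpa using ‹K₀.Normal›.conj_mem _ k.2 c⁻¹
      set b : ↥K₀ := ⟨c⁻¹ * (k : ↥C) * c, hb⟩
      have h1 := hc b k (by show (k : ↥C) = c * (c⁻¹ * k * c) * c⁻¹; group)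
      have h2 : f₀ k = f₀ (αK b) := h1.trans (hσ₀ b)
      have h3 := (hf₀k (αK b * k⁻¹)).1 (by rw [map_mul, map_inv, h2, mul_inv_cancel])
      rw [Subgroup.mem_subgroupOf] at h3
      have e : α ((k : ↥C) : ↥G₀) = act y ((b : ↥C) : ↥G₀) := by
        refine Subtype.ext ?_
        rw [hα, act_coe, act_coe, hd]
        show _ = y * ((((c⁻¹ * (k : ↥C) * c : ↥C)) : ↥G₀) : X) * y⁻¹
        simp only [Subgroup.coe_mul, Subgroup.coe_inv]
        group
      rw [e]
      exact h3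
    let h : ↥K₀ →* ↥G₀ := MonoidHom.mk' (fun k => α ((k : ↥C) : ↥G₀) * ((k : ↥C) : ↥G₀)⁻¹) (by
      intro a b
      obtain ⟨n, hn⟩ := Subgroup.mem_zpowers_iff.1 (hfd b)
      have hcom : Commute ((a : ↥C) : ↥G₀)⁻¹ (α ((b : ↥C) : ↥G₀) * ((b : ↥C) : ↥G₀)⁻¹) :=
        hn ▸ (((show Commute ((a : ↥C) : ↥G₀) t from subgroup_comm.1 (a : ↥C).2).inv_left).zpow_right n)
      show α (((a : ↥C) : ↥G₀) * ((b : ↥C) : ↥G₀)) * (((a : ↥C) : ↥G₀) * ((b : ↥C) : ↥G₀))⁻¹ = _
      rw [map_mul, mul_inv_rev, mul_assoc (α _), ← mul_assoc (α ((b : ↥C) : ↥G₀)), ← hcom.eq,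
        ← mul_assoc])
    have h1 := hom_eq_one hK h (fun a b => by
      obtain ⟨m, hm⟩ := Subgroup.mem_zpowers_iff.1 (hfd a)
      obtain ⟨n, hn⟩ := Subgroup.mem_zpowers_iff.1 (hfd b)
      show α _ * _ * (α _ * _) = α _ * _ * (α _ * _)
      rw [← hm, ← hn, ← zpow_add, ← zpow_add, add_comm])
    rintro _ ⟨k, hk, rfl⟩
    exact mul_inv_eq_one.1 (h1 ⟨k, hk⟩)
  have hnear : ∀ g : ↥G₀, g * t = t * g → α g = g ∨ α g = g * t := by
    intro g hg
    have hαg : α g * t = t * α g := by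
      have := congrArg α hg
      rwa [map_mul, map_mul, hαt] at this
    have hmem : (⟨g⁻¹ * α g, C.mul_mem (C.inv_mem (subgroup_comm.2 hg)) (subgroup_comm.2 hαg)⟩ : ↥C)
        ∈ (Subgroup.zpowers t).subgroupOf C := by
      refine hcent _ fun k hk => ?_
      have hnorm : K₀.Normal := Subgroup.normal_of_index_eq_two hK2
      have hk' := hαK _ ⟨_, hnorm.conj_mem k hk (⟨g, subgroup_comm.2 hg⟩ : ↥C), rfl⟩
      have hk1 := hαK _ ⟨k, hk, rfl⟩
      rw [Subgroup.mem_subgroupOf]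
      convert Subgroup.one_mem (Subgroup.zpowers t) using 1
      show g⁻¹ * α g * (k : ↥G₀) * (g⁻¹ * α g)⁻¹ * (k : ↥G₀)⁻¹ = 1
      simp only [Subgroup.coe_subtype, Subgroup.coe_mul, Subgroup.coe_inv, map_mul, map_inv] at hk' hk1
      rw [hk1] at hk'
      calc g⁻¹ * α g * (k : ↥G₀) * (g⁻¹ * α g)⁻¹ * (k : ↥G₀)⁻¹
          = g⁻¹ * (α g * (k : ↥G₀) * (α g)⁻¹) * g * (k : ↥G₀)⁻¹ := by group
        _ = 1 := by rw [hk']; group
    rw [Subgroup.mem_subgroupOf] at hmem
    obtain ⟨n, hn⟩ := Subgroup.mem_zpowers_iff.1 hmem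
    have ht2' : t ^ (2 : ℤ) = 1 := by rw [zpow_two]; exact ht2
    rcases Int.even_or_odd' n with ⟨m, rfl | rfl⟩
    · left
      rw [zpow_mul, ht2', one_zpow] at hn
      exact (inv_mul_eq_one.1 hn.symm).symm
    · right
      rw [zpow_add, zpow_mul, ht2', one_zpow, one_mul, zpow_one] at hn
      exact (mul_eq_of_eq_inv_mul hn).symm
  -- the central involution
  have hzK : z ∈ K := by
    obtain ⟨a, ha, haπ⟩ := S.π_surj (emb4 (Pi.single 0 1))
    obtain ⟨b, hb, hbπ⟩ := S.π_surj (ω₄ • emb4 (Pi.single 0 1))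
    have hca : a * t = t * a := (S.comm_iff ha htQ).2 (by
      rw [haπ, htπ, pol_symm]; simpa using pol_emb4 (Pi.single 0 1) 1)
    have hcb : b * t = t * b := (S.comm_iff hb htQ).2 (by
      rw [hbπ, htπ, pol_symm]; exact pol_emb4 _ _)
    have hp : pol (emb4 (Pi.single 0 1)) (ω₄ • emb4 (Pi.single 0 1)) = 1 := by decide +kernel
    have hcm := S.comm a ha b hb
    rw [haπ, hbπ, hp, show zp z (1 : ZMod 2) = z by simp [zp]] at hcm
    rw [hK_eq]
    have h := Subgroup.commutator_mem_commutator (H₁ := C) (H₂ := C) (subgroup_comm.2 hcb)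
      (subgroup_comm.2 hca)
    rw [commutatorElement_def, hcm, show a * b * z * b⁻¹ * a⁻¹ = z by
      rw [mul_assoc a b z, S.le b hb, ← mul_assoc a z b, S.le a ha]; group] at h
    exact h
  have hαz := hαK z hzK
  have hdz : d * (z : X) = z * d := (act_fix d z).1 hαz
  have A : Auto S α t :=
    { tQ := htQ, tπ := htπ, fixz := hαz, fixt := hαt, normQ := hFn d hdz, near := hnear }
  have hmoves : ¬ ∀ q ∈ Qm, q * t = t * q → α q = q := by
    intro hfix
    rcases A.inner_of_fixed hfix with h | h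
    · exact hdG (hcen d hdz h)
    · refine hdG ?_
      have hzt : (t : X)⁻¹ * z = z * (t : X)⁻¹ :=
        ((show Commute (t : X) (z : X) from congrArg Subtype.val (S.le t htQ)).inv_left).eq
      have := hcen ((t : X)⁻¹ * d) (by rw [mul_assoc, hdz, ← mul_assoc, hzt, mul_assoc]) fun q hq => by
        refine Subtype.ext ?_
        have h' := congrArg Subtype.val (h q hq)
        rw [hα, act_coe] at h'
        simp only [Subgroup.coe_mul, Subgroup.coe_inv] at h'
        rw [act_coe, show (t : X)⁻¹ * d * q * ((t : X)⁻¹ * d)⁻¹ =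
          (t : X)⁻¹ * (d * (q : X) * d⁻¹) * t by group, h']
        group
      simpa using G₀.mul_mem t.2 this
  have M : Moving S α t := { toAuto := A, moves := hmoves }
  -- the square
  have hd2 : d * d = 1 := by
    have hdd : d * d ∈ G₀ := Subgroup.mul_self_mem_of_index_two hidx d
    set s : ↥G₀ := ⟨d * d, hdd⟩
    have hst : s * t = t * s := Subtype.ext (by
      show d * d * (t : X) = t * (d * d)
      exact ((show Commute d (t : X) from hdt).mul_left (show Commute d (t : X) from hdt)).eq)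
    have hmem : (⟨s, subgroup_comm.2 hst⟩ : ↥C) ∈ (Subgroup.zpowers t).subgroupOf C := by
      refine hcent _ fun k hk => ?_
      rw [Subgroup.mem_subgroupOf]
      convert Subgroup.one_mem (Subgroup.zpowers t) using 1
      refine Subtype.ext ?_
      have h := congrArg Subtype.val (hαK _ ⟨k, hk, rfl⟩)
      rw [hα, act_coe] at h
      simp only [Subgroup.coe_subtype] at h
      show d * d * ((k : ↥G₀) : X) * (d * d)⁻¹ * ((k : ↥G₀) : X)⁻¹ = 1
      calc d * d * ((k : ↥G₀) : X) * (d * d)⁻¹ * ((k : ↥G₀) : X)⁻¹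
          = d * (d * ((k : ↥G₀) : X) * d⁻¹) * d⁻¹ * ((k : ↥G₀) : X)⁻¹ := by group
        _ = 1 := by rw [h, h, mul_inv_cancel]
    rw [Subgroup.mem_subgroupOf] at hmem
    obtain ⟨n, hn⟩ := Subgroup.mem_zpowers_iff.1 hmem
    have ht2' : t ^ (2 : ℤ) = 1 := by rw [zpow_two]; exact ht2
    rcases Int.even_or_odd' n with ⟨m, rfl | rfl⟩
    · rw [zpow_mul, ht2', one_zpow] at hn
      exact (congrArg Subtype.val hn).symm
    · exfalso
      rw [zpow_add, zpow_mul, ht2', one_zpow, one_mul, zpow_one] at hn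
      obtain ⟨u, hu, hut⟩ := S.exists_conj_z htQ hπt
      obtain ⟨hw, hw2, hwt, -⟩ := M.w_facts hu
      set w : ↥G₀ := u * (α u)⁻¹
      have hdd' : d * d = (t : X) := (congrArg Subtype.val hn).symm
      have e : ((w : X) * d) * ((w : X) * d) = (z : X) * t := by
        have h1 : (w : X) * d = u * d * (u : X)⁻¹ := by
          show ((u * (α u)⁻¹ : ↥G₀) : X) * d = _
          rw [Subgroup.coe_mul, Subgroup.coe_inv, hα, act_coe]
          group
        rw [h1, show (u : X) * d * (u : X)⁻¹ * (u * d * (u : X)⁻¹) = u * (d * d) * (u : X)⁻¹ by group, hdd']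
        have := congrArg Subtype.val hut
        simpa using this
      have e' : ((w : X) * d) * ((w : X) * d) = ((w * α w * t : ↥G₀) : X) := by
        simp only [Subgroup.coe_mul, hα, act_coe]
        rw [← hdd']
        group
      rw [e'] at e
      have e2 : w * α w * t = z * t := Subtype.ext e
      rcases M.near w hwt with h | h <;> rw [h] at e2
      · rw [hw2, one_mul, eq_comm, mul_eq_right] at e2
        exact S.z_ne e2
      · rw [← mul_assoc w w t, hw2, one_mul, ht2] at e2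
        refine hπt ((S.π_zero t htQ).2 (Or.inr ?_))
        rw [eq_inv_of_mul_eq_one_right e2.symm]
        exact inv_eq_of_mul_eq_one_right S.z_sq
  have hd1 : d ≠ 1 := fun h => hdG (h ▸ G₀.one_mem)
  obtain ⟨g, -, hgα, hgne, hgc⟩ := M.exists_mover
  refine ⟨d, t, K, f₀.comp (K₀.equivMapOfInjective C.subtype C.subtype_injective).symm.toMonoidHom,
    orderOf_eq_prime (by rw [pow_two, hd2]) hd1, hdG, hdz, hto, hdt,
    Cfsg.Agent.H41.isQuasisimple_congr (K₀.equivMapOfInjective C.subtype C.subtype_injective)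
      ⟨hK, hsimple⟩,
    hf₀s.comp (MulEquiv.surjective _), fun k => ?_, fun a => ?_, htQ, htz, g,
    (act_fix d g).1 hgα, hgne, hgc⟩
  · refine (hf₀k _).trans ?_
    rw [Subgroup.mem_subgroupOf]
    have : (((K₀.equivMapOfInjective C.subtype C.subtype_injective).symm k : ↥K₀) : ↥C).1 = (k : ↥G₀) := by
      conv_rhs => rw [← (K₀.equivMapOfInjective C.subtype C.subtype_injective).apply_symm_apply k]
      rfl
    exact this ▸ Iff.rfl
  · refine ⟨fun ha => ⟨hKC a ha, (act_fix d a).1 (hαK a ha)⟩, fun ⟨hat, had⟩ => ?_⟩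
    have haα : α a = a := (act_fix d a).2 had
    by_contra haK
    have hout : ∀ w : ↥G₀, ∀ hw : w * t = t * w, w ∉ K → (⟨w, subgroup_comm.2 hw⟩ : ↥C) ∉ K₀ :=
      fun w hw hn hm => hn ⟨_, hm, rfl⟩
    obtain ⟨q, hq, hqt, hne⟩ := M.exists_moved
    have hqK : q ∉ K := fun h => hne (hαK q h)
    have hprod := (Subgroup.mul_mem_iff_of_index_two hK2
      (a := (⟨a, subgroup_comm.2 hat⟩ : ↥C)) (b := ⟨q, subgroup_comm.2 hqt⟩)).2
      (iff_of_false (hout a hat haK) (hout q hqt hqK))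
    have h := hαK _ ⟨_, hprod, rfl⟩
    simp only [Subgroup.coe_subtype, Subgroup.coe_mul, map_mul, haα] at h
    exact hne (mul_left_cancel h)

end Cfsg.Agent.H33.AutLFi
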